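import Groth.Agent.GrpSchField.SmoothCriterion
import Groth.Agent.EGA41Lib.ReducedTensor
import Mathlib

/-!
# Smoothness of group schemes from a perfect base change of the local ring at the unit
-/

set_option autoImplicit false
universe u
open CategoryTheory CategoryTheory.Limits AlgebraicGeometry
open scoped TensorProduct

namespace Groth.Agent.SmoothGeomRed

theorem isReduced_algClosure_tensor {k : Type u} [Field k] {K : Type u} [Field K] [Algebra k K]
    [PerfectField K] {O : Type u} [CommRing O] [Algebra k O] [IsReduced (K ⊗[k] O)] :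
    IsReduced (O ⊗[k] AlgebraicClosure k) := by
  let L := AlgebraicClosure K
  have : IsReduced (L ⊗[K] (K ⊗[k] O)) := EGA41Lib.isReduced_tensor_of_isSeparable L (K ⊗[k] O)
  have : IsReduced (L ⊗[k] O) :=
    isReduced_of_injective (Algebra.TensorProduct.cancelBaseChange k K K L O).symm
      (Algebra.TensorProduct.cancelBaseChange k K K L O).symm.injective
  have : IsReduced (AlgebraicClosure k ⊗[k] O) :=
    isReduced_of_injective
      (Algebra.TensorProduct.map (IsAlgClosed.lift : AlgebraicClosure k →ₐ[k] L) (AlgHom.id k O))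
      (Module.Flat.rTensor_preserves_injective_linearMap _ (RingHom.injective _))
  exact isReduced_of_injective (Algebra.TensorProduct.comm k O (AlgebraicClosure k))
    (Algebra.TensorProduct.comm k O (AlgebraicClosure k)).injective

/-- Spreading reducedness out of a localisation at a prime. -/
theorem exists_isReduced_away {k : Type u} [Field k] {B O E : Type u} [CommRing B] [CommRing O]
    [CommRing E] [Algebra k B] [Algebra k O] [Algebra B O] [IsScalarTower k B O] [Algebra k E]
    (q : Ideal B) [q.IsPrime] [IsLocalization.AtPrime O q] [IsNoetherianRing (B ⊗[k] E)]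
    [IsReduced (O ⊗[k] E)] [Nontrivial (O ⊗[k] E)] :
    ∃ f : B, IsReduced (Localization.Away (f ⊗ₜ[k] (1 : E))) ∧
      Nontrivial (Localization.Away (f ⊗ₜ[k] (1 : E))) := by
  classical
  let φ : B ⊗[k] E →ₐ[k] O ⊗[k] E :=
    Algebra.TensorProduct.map (IsScalarTower.toAlgHom k B O) (AlgHom.id k E)
  let b := Module.Basis.ofVectorSpace k E
  let rB := TensorProduct.equivFinsuppOfBasisRight (M := B) b
  let rO := TensorProduct.equivFinsuppOfBasisRight (M := O) b
  have hcoord : ∀ (x : B ⊗[k] E) i, rO (φ x) i = algebraMap B O (rB x i) := by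
    intro x i
    induction x using TensorProduct.induction_on with
    | zero => simp
    | tmul a e => simp [φ, rB, rO, Algebra.smul_def, ← IsScalarTower.algebraMap_apply]
    | add x y hx hy => simp [map_add, hx, hy]
  have hkill : ∀ x : B ⊗[k] E, φ x = 0 → ∃ s ∈ q.primeCompl, (s ⊗ₜ[k] (1 : E)) * x = 0 := by
    intro x hx
    have h0 : ∀ i, ∃ s : q.primeCompl, (s : B) * rB x i = 0 := fun i =>
      (IsLocalization.map_eq_zero_iff q.primeCompl O (rB x i)).mp (by
        rw [← hcoord, hx, map_zero, Finsupp.zero_apply])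
    choose s hs using h0
    refine ⟨∏ i ∈ (rB x).support, (s i : B), Submonoid.prod_mem _ fun i _ => (s i).2, ?_⟩
    apply rB.injective
    rw [map_zero]
    ext i
    have hsm : ∀ (c : B) (y : B ⊗[k] E), rB ((c ⊗ₜ[k] (1 : E)) * y) i = c * rB y i := by
      intro c y
      induction y using TensorProduct.induction_on with
      | zero => simp
      | tmul a e => simp [rB, Algebra.TensorProduct.tmul_mul_tmul, mul_smul_comm]
      | add y z hy hz => simp [mul_add, map_add, hy, hz]
    rw [hsm, Finsupp.zero_apply]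
    by_cases hi : i ∈ (rB x).support
    · rw [← Finset.mul_prod_erase _ _ hi, mul_assoc, mul_left_comm, hs, mul_zero]
    · rw [Finsupp.notMem_support_iff.mp hi, mul_zero]
  obtain ⟨T, hT⟩ := IsNoetherian.noetherian (nilradical (B ⊗[k] E))
  have hT' : ∀ x ∈ T, ∃ s ∈ q.primeCompl, (s ⊗ₜ[k] (1 : E)) * x = 0 := fun x hx =>
    hkill x (((mem_nilradical.mp (show x ∈ nilradical (B ⊗[k] E) from hT ▸ Submodule.subset_span hx)).map φ).eq_zero)
  choose! s hs hs0 using hT'
  let f : B := ∏ x ∈ T, s x
  have hf : f ∈ q.primeCompl := Submonoid.prod_mem _ fun x hx => hs x hx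
  have hnil : ∀ y : B ⊗[k] E, IsNilpotent y → (f ⊗ₜ[k] (1 : E)) * y = 0 := by
    intro y hy
    have hy' : y ∈ Submodule.span (B ⊗[k] E) (T : Set (B ⊗[k] E)) := by
      rw [hT]; exact mem_nilradical.mpr hy
    clear hy
    induction hy' using Submodule.span_induction with
    | mem x hx =>
      have : (f ⊗ₜ[k] (1 : E)) = ((∏ z ∈ T.erase x, s z) ⊗ₜ[k] (1 : E)) * (s x ⊗ₜ[k] (1 : E)) := by
        rw [Algebra.TensorProduct.tmul_mul_tmul, mul_one, Finset.prod_erase_mul _ _ hx]
      rw [this, mul_assoc, hs0 x hx, mul_zero]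
    | zero => rw [mul_zero]
    | add x y _ _ hx hy => rw [mul_add, hx, hy, add_zero]
    | smul c x _ hx => rw [smul_eq_mul, mul_left_comm, hx, mul_zero]
  set F := f ⊗ₜ[k] (1 : E)
  refine ⟨f, ⟨fun z hz => ?_⟩, ?_⟩
  · obtain ⟨x, ⟨_, n, rfl⟩, rfl⟩ := IsLocalization.exists_mk'_eq (Submonoid.powers F) z
    obtain ⟨r, hr⟩ := hz
    rw [← IsLocalization.mk'_pow, IsLocalization.mk'_eq_zero_iff] at hr
    obtain ⟨⟨_, m, rfl⟩, hm⟩ := hr
    dsimp only at hm
    rw [IsLocalization.mk'_eq_zero_iff]
    refine ⟨⟨F ^ (m + 1), ⟨m + 1, rfl⟩⟩, ?_⟩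
    have hn : IsNilpotent (F ^ m * x) := ⟨r + 1, by
      rw [mul_pow, pow_succ x, ← mul_assoc,
        show (F ^ m) ^ (r + 1) = (F ^ m) ^ r * F ^ m from pow_succ _ _, mul_assoc ((F ^ m) ^ r),
        hm, mul_zero, zero_mul]⟩
    show F ^ (m + 1) * x = 0
    rw [pow_succ', mul_assoc, hnil _ hn]
  · have hu : IsUnit (φ F) := by
      rw [show φ F = algebraMap B O f ⊗ₜ[k] (1 : E) from rfl]
      exact (IsLocalization.map_units O ⟨f, hf⟩).map
        (Algebra.TensorProduct.includeLeft : O →ₐ[k] O ⊗[k] E)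
    exact (IsLocalization.Away.lift (S := Localization.Away F) F (g := φ.toRingHom) hu).domain_nontrivial

theorem smooth_of_perfect {k : Type u} [Field k] (G : Over (Spec (CommRingCat.of k))) [GrpObj G]
    [LocallyOfFiniteType G.hom] (e : G.left) (K : Type u) [Field K] [Algebra k K] [PerfectField K]
    (h : letI := ((Scheme.ΓSpecIso (CommRingCat.of k)).inv ≫ G.hom.appTop ≫ G.left.presheaf.germ ⊤ e trivial).hom.toAlgebra
      IsReduced (K ⊗[k] (G.left.presheaf.stalk e))) : Smooth G.hom := by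
  letI algO := ((Scheme.ΓSpecIso (CommRingCat.of k)).inv ≫ G.hom.appTop ≫ G.left.presheaf.germ ⊤ e trivial).hom.toAlgebra
  haveI := h
  obtain ⟨_, ⟨U, hU, rfl⟩, heU, -⟩ := G.left.isBasis_affineOpens.exists_subset_of_mem_open
    (Set.mem_univ e) isOpen_univ
  let φ : CommRingCat.of k ⟶ Γ(G.left, U) :=
    (Scheme.ΓSpecIso (CommRingCat.of k)).inv ≫ G.hom.appTop ≫ G.left.presheaf.map (homOfLE le_top).op
  letI algB : Algebra k Γ(G.left, U) := φ.hom.toAlgebra
  letI := TopCat.Presheaf.algebra_section_stalk G.left.presheaf (⟨e, heU⟩ : U)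
  haveI : IsScalarTower k Γ(G.left, U) (G.left.presheaf.stalk e) := by
    refine IsScalarTower.of_algebraMap_eq fun c => ?_
    show _ = G.left.presheaf.germ U e heU (φ c)
    rw [show φ c = G.left.presheaf.map (homOfLE le_top).op (G.hom.appTop ((Scheme.ΓSpecIso (CommRingCat.of k)).inv c)) from rfl]
    rw [TopCat.Presheaf.germ_res_apply]
    rfl
  haveI := hU.isLocalization_stalk ⟨e, heU⟩
  have hspec : Spec.map φ = hU.fromSpec ≫ G.hom := by
    have e1 : Spec.map φ = Spec.map (G.left.presheaf.map (homOfLE le_top).op) ≫ Spec.map G.hom.appTop ≫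
        Spec.map (Scheme.ΓSpecIso (CommRingCat.of k)).inv := by
      simp only [φ, Spec.map_comp, Category.assoc]
    rw [e1, ← hU.fromSpec_toSpecΓ, Category.assoc, ← Scheme.toSpecΓ_naturality_assoc]
    rw [← cancel_mono (Spec (CommRingCat.of k)).toSpecΓ]
    simp
  haveI : Algebra.FiniteType k Γ(G.left, U) := by
    have hloc : LocallyOfFiniteType (Spec.map φ) := by rw [hspec]; infer_instance
    rw [HasRingHomProperty.Spec_iff (P := @LocallyOfFiniteType)] at hloc
    exact hloc
  let Ω := AlgebraicClosure k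
  haveI : IsNoetherianRing (Γ(G.left, U) ⊗[k] Ω) := by
    have : IsNoetherianRing (Ω ⊗[k] Γ(G.left, U)) := Algebra.FiniteType.isNoetherianRing Ω _
    exact isNoetherianRing_of_ringEquiv _ (Algebra.TensorProduct.comm k Ω Γ(G.left, U)).toRingEquiv
  haveI : IsReduced ((G.left.presheaf.stalk e) ⊗[k] Ω) := isReduced_algClosure_tensor (K := K)
  haveI : Nontrivial ((G.left.presheaf.stalk e) ⊗[k] Ω) :=
    TensorProduct.nontrivial_of_linearMap_injective_of_flat_right _ _ _
      (Algebra.linearMap k (G.left.presheaf.stalk e)) (FaithfulSMul.algebraMap_injective k _)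
  obtain ⟨f, hfred, hfne⟩ := exists_isReduced_away (k := k) (B := Γ(G.left, U)) (O := G.left.presheaf.stalk e) (E := Ω)
    (hU.primeIdealOf ⟨e, heU⟩).asIdeal
  let g : Spec (CommRingCat.of Ω) ⟶ Spec (CommRingCat.of k) :=
    Spec.map (CommRingCat.ofHom (algebraMap k Ω))
  let m : pullback (Spec.map φ) g ⟶ pullback G.hom g :=
    pullback.map (Spec.map φ) g G.hom g hU.fromSpec (𝟙 _) (𝟙 _)
      (by rw [Category.comp_id, hspec]) (by rw [Category.comp_id, Category.id_comp])
  haveI : IsOpenImmersion m := MorphismProperty.pullbackMap (P := @IsOpenImmersion)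
    (inferInstance : IsOpenImmersion hU.fromSpec) (inferInstance : IsOpenImmersion (𝟙 _)) hspec (Category.id_comp g)
  let C := Localization.Away (f ⊗ₜ[k] (1 : Ω))
  let c : Spec (CommRingCat.of C) ⟶ Spec (CommRingCat.of (Γ(G.left, U) ⊗[k] Ω)) :=
    Spec.map (CommRingCat.ofHom (algebraMap _ C))
  haveI : IsOpenImmersion c := IsOpenImmersion.of_isLocalization (f ⊗ₜ[k] (1 : Ω))
  let ι : Spec (CommRingCat.of C) ⟶ pullback G.hom g :=
    c ≫ (pullbackSpecIso k Γ(G.left, U) Ω).inv ≫ m
  haveI : IsOpenImmersion ι :=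
    @IsOpenImmersion.comp _ _ _ c ((pullbackSpecIso k Γ(G.left, U) Ω).inv ≫ m) inferInstance inferInstance
  haveI : LocallyOfFiniteType (pullback.snd G.hom g) := inferInstance
  haveI : IsReduced C := hfred
  haveI : Nontrivial C := hfne
  haveI : AlgebraicGeometry.IsReduced (Spec (CommRingCat.of C)) := inferInstance
  haveI : Nonempty (Spec (CommRingCat.of C)) := inferInstanceAs (Nonempty (PrimeSpectrum C))
  obtain ⟨y, hy⟩ := (ι ≫ pullback.snd G.hom g).dense_smoothLocus_of_perfectField.nonempty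
  refine GrpSchField.smooth_of_baseChange G ⟨ι y, ?_⟩
  rwa [← Scheme.Hom.preimage_smoothLocus_eq] at hy

end Groth.Agent.SmoothGeomRed
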